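import Groth.Agent.Lib.AbRigid.Image
import Groth.Agent.Lib.OrbitTop19.Base
import Groth.Agent.Lib.GITQuot.Orbit
import Groth.Agent.Lib.AlgGrpBasic19.FibreIso
import Groth.Agent.Lib.EtaleQF.Basic
import Groth.Agent.S0353
import Groth.Prelude.Def_W4bk4git07Quot

/-! # Stabilizers in characteristic zero and universally injective stabilizer schemes -/

set_option autoImplicit false
set_option linter.style.haveILetI false
set_option backward.isDefEq.respectTransparency.types false
universe u

open CategoryTheory Limits MonoidalCategory CartesianMonoidalCategory MonObj AlgebraicGeometry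
open CategoryTheory.Functor.LaxMonoidal

noncomputable section

namespace Groth.Agent.Stab19

/-- The stabilizer of a rational point is a subgroup. -/
theorem exists_grpObj {C : Type*} [Category C] [CartesianMonoidalCategory C] {G X Z : C} [GrpObj G]
    (o : G ⟶ X) (x : 𝟙_ C ⟶ X) (i : Z ⟶ G) (sq : IsPullback i (toUnit Z) o x)
    (h1 : η[G] ≫ o = x)
    (hmul : ∀ {T : C} (g g' : T ⟶ G), g ≫ o = toUnit T ≫ x → g' ≫ o = toUnit T ≫ x →
      (g * g') ≫ o = toUnit T ≫ x)
    (hinv : ∀ {T : C} (g : T ⟶ G), g ≫ o = toUnit T ≫ x → g⁻¹ ≫ o = toUnit T ≫ x) :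
    Nonempty (GrpObj Z) := by
  haveI : Mono i := ⟨fun a b h => sq.hom_ext h (toUnit_unique _ _)⟩
  let e : 𝟙_ C ⟶ Z := sq.lift η[G] (𝟙 _) (by rw [h1, Category.id_comp])
  have hi : ∀ {T : C} (p : T ⟶ Z), (p ≫ i) ≫ o = toUnit T ≫ x := fun p => by
    rw [Category.assoc, sq.w, ← Category.assoc, comp_toUnit]
  let m : Z ⊗ Z ⟶ Z := sq.lift ((fst Z Z ≫ i) * (snd Z Z ≫ i)) (toUnit _) (hmul _ _ (hi _) (hi _))
  let v : Z ⟶ Z := sq.lift i⁻¹ (toUnit _) (hinv _ (by simpa using hi (𝟙 Z)))
  refine ⟨AbRigid.grpObjOfMono i e (sq.lift_fst _ _ _) m ?_ v ?_⟩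
  · rw [show m ≫ i = _ from sq.lift_fst _ _ _, Hom.mul_def]
    congr 1
    apply CartesianMonoidalCategory.hom_ext <;> simp
  · rw [show v ≫ i = _ from sq.lift_fst _ _ _, Hom.inv_def]

/-- Stabilizers of rational points are smooth in characteristic zero. -/
theorem smooth_stab {K : Type u} [Field K] [CharZero K] {G X Z : Over (Spec (CommRingCat.of K))} [GrpObj G]
    [LocallyOfFiniteType Z.hom]
    (a : AlgGrp.Action G X) (x : 𝟙_ (Over (Spec (CommRingCat.of K))) ⟶ X) (i : Z ⟶ G)
    (sq : IsPullback i (toUnit Z) (a.orbitMap x) x) : Smooth Z.hom := by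
  have hgo : ∀ {T : Over (Spec (CommRingCat.of K))} (g : T ⟶ G),
      g ≫ a.orbitMap x = lift g (toUnit T ≫ x) ≫ a.act := fun g => by
    show g ≫ lift (𝟙 G) (toUnit G ≫ x) ≫ a.act = _
    rw [← Category.assoc, comp_lift, Category.comp_id, ← Category.assoc, comp_toUnit]
  obtain ⟨_⟩ := exists_grpObj (a.orbitMap x) x i sq (by
      rw [hgo]
      have := AlgGrpBasic19.act_one a x
      simpa [Hom.one_def] using this)
    (fun g g' h h' => by rw [hgo] at h h' ⊢; rw [AlgGrpBasic19.act_mul, h', h])
    (fun g h => by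
      rw [hgo] at h ⊢
      conv_lhs => rw [← h, ← AlgGrpBasic19.act_mul, inv_mul_cancel, AlgGrpBasic19.act_one])
  exact Groth.Agent.S0353.result K Z

/-- An unramified injective morphism with a section is an isomorphism. -/
theorem isIso_of_section {X Y : Scheme.{u}} (f : X ⟶ Y) [LocallyOfFiniteType f] [FormallyUnramified f]
    (hf : Function.Injective f) (s : Y ⟶ X) (hs : s ≫ f = 𝟙 Y) : IsIso f := by
  haveI : IsOpenImmersion (s ≫ f) := by rw [hs]; infer_instance
  haveI : IsOpenImmersion s := by
    let m : X ⟶ pullback f f := pullback.lift (f ≫ s) (𝟙 X)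
      (by rw [Category.assoc, hs, Category.comp_id, Category.id_comp])
    have hm1 : m ≫ pullback.fst f f = f ≫ s := pullback.lift_fst _ _ _
    have hm2 : m ≫ pullback.snd f f = 𝟙 X := pullback.lift_snd _ _ _
    have sq : IsPullback s s m (pullback.diagonal f) := by
      refine ⟨⟨?_⟩, ⟨PullbackCone.IsLimit.mk _ (fun c => c.fst ≫ f) (fun c => ?_) (fun c => ?_)
        (fun c m' h1 _ => ?_)⟩⟩
      · apply pullback.hom_ext <;> simp [hm1, hm2, reassoc_of% hs]
      · have e1 := congrArg (· ≫ pullback.fst f f) c.condition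
        have e2 := congrArg (· ≫ pullback.snd f f) c.condition
        simp [hm1, hm2] at e1 e2
        rw [Category.assoc, e1, e2]
      · have e1 := congrArg (· ≫ pullback.fst f f) c.condition
        simp [hm1] at e1
        simpa using e1
      · rw [← h1, Category.assoc, hs, Category.comp_id]
    exact MorphismProperty.of_isPullback (P := @IsOpenImmersion) sq.flip inferInstance
  haveI : Surjective s := ⟨fun x => ⟨f x, hf (congrArg (fun m : Y ⟶ Y => m (f x)) hs)⟩⟩
  haveI : IsIso s := isIso_of_isOpenImmersion_of_opensRange_eq_top s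
    (TopologicalSpace.Opens.ext (Set.range_eq_univ.2 s.surjective))
  exact IsIso.of_isIso_fac_left hs

/-- If the stabilizer scheme is universally injective over `X` then it is trivial, provided it is unramified or the
characteristic is zero. -/
theorem isIso_fiber {k : Type u} [Field k] [CharZero k] {G X : Over (Spec (CommRingCat.of k))} [GrpObj G]
    [LocallyOfFiniteType G.hom] [LocallyOfFiniteType X.hom] (a : AlgGrp.Action G X)
    (hinj : UniversallyInjective (pullback.snd (GIT.psi a (𝟙 X)).left (lift (𝟙 X) (𝟙 X)).left)) (x : X.left) :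
    IsIso ((pullback.snd (GIT.psi a (𝟙 X)).left (lift (𝟙 X) (𝟙 X)).left).fiberToSpecResidueField x) := by
  set Ψ := GIT.psi a (𝟙 X)
  set d := lift (𝟙 X) (𝟙 X)
  set P := pullback.snd Ψ.left d.left
  haveI := hinj
  let φ := P.fiberToSpecResidueField x
  let K : Type u := X.left.residueField x
  let t : Spec (CommRingCat.of K) ⟶ Spec (CommRingCat.of k) := X.left.fromSpecResidueField x ≫ X.hom
  haveI : CharZero K := charZero_of_injective_ringHom (Spec.preimage t).hom.injective
  let T : Over (Spec (CommRingCat.of k)) := Over.mk t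
  let f : T ⟶ X := Over.homMk (X.left.fromSpecResidueField x) rfl
  haveI : LocallyOfFiniteType (G ⊗ X).hom :=
    inferInstanceAs (LocallyOfFiniteType (pullback.fst G.hom X.hom ≫ G.hom))
  haveI : LocallyOfFiniteType (GIT.psi a (𝟙 X)).left := AlgGrpBasic19.lft_left _
  haveI : LocallyOfFiniteType P := inferInstanceAs (LocallyOfFiniteType (pullback.snd _ _))
  haveI : LocallyOfFiniteType φ := inferInstanceAs (LocallyOfFiniteType (pullback.snd _ _))
  haveI : UniversallyInjective φ := MorphismProperty.pullback_snd P _ ‹UniversallyInjective P›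
  -- the square computing `psi a f`
  have right : IsPullback (G ◁ f).left (GIT.psi a f).left Ψ.left (X ◁ f).left := by
    refine IsPullback.of_bot ?_ ?_ (GITQuot.isPullback_whiskerLeft f X)
    · rw [← Over.comp_left, show GIT.psi a f ≫ snd X T = snd G T by simp [GIT.psi],
        ← Over.comp_left, show Ψ ≫ snd X X = snd G X by simp [Ψ, GIT.psi]]
      exact GITQuot.isPullback_whiskerLeft f G
    · rw [← Over.comp_left, ← Over.comp_left]
      congr 1
      apply CartesianMonoidalCategory.hom_ext <;> simp [Ψ, GIT.psi]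
  have big : IsPullback (P.fiberι x ≫ pullback.fst Ψ.left d.left) φ Ψ.left
      ((lift f (𝟙 T)).left ≫ (X ◁ f).left) := by
    have e : (lift f (𝟙 T)).left ≫ (X ◁ f).left = X.left.fromSpecResidueField x ≫ d.left := by
      rw [← Over.comp_left, show X.left.fromSpecResidueField x ≫ d.left = (f ≫ d).left from rfl]
      congr 1
      apply CartesianMonoidalCategory.hom_ext <;> simp [d]
    rw [e]
    exact (IsPullback.of_hasPullback P (X.left.fromSpecResidueField x)).paste_horiz
      (IsPullback.of_hasPullback Ψ.left d.left)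
  let q : P.fiber x ⟶ (G ⊗ T).left := right.lift (P.fiberι x ≫ pullback.fst Ψ.left d.left)
    (φ ≫ (lift f (𝟙 T)).left) (by rw [Category.assoc]; exact big.w)
  have left : IsPullback q φ (GIT.psi a f).left (lift f (𝟙 T)).left := by
    refine IsPullback.of_right ?_ (right.lift_snd _ _ _) right
    rw [right.lift_fst]
    exact big
  -- over the residue field
  let F := Over.pullback t
  letI : GrpObj (F.obj G) := Functor.grpObjObj
  let a' := OrbitTop19.mapAction F a
  let x' : 𝟙_ (Over (Spec (CommRingCat.of K))) ⟶ F.obj X := Over.homMk (lift f (𝟙 T)).left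
    (show (lift f (𝟙 T)).left ≫ (snd X T).left = 𝟙 _ by rw [← Over.comp_left, lift_snd]; rfl)
  have horb : (a'.orbitMap x').left = (GIT.psi a f).left := by
    let w : F.obj G ⟶ F.obj (G ⊗ X) := lift (𝟙 (F.obj G)) (toUnit _ ≫ x') ≫ Functor.LaxMonoidal.μ F G X
    have w1 : w ≫ F.map (fst G X) = 𝟙 _ := by simp [w]
    have w2 : w ≫ F.map (snd G X) = toUnit _ ≫ x' := by simp [w]
    have ho : a'.orbitMap x' = w ≫ F.map a.act := by
      show lift _ _ ≫ Functor.LaxMonoidal.μ F G X ≫ F.map a.act = _
      simp [w]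
    have hmap : ∀ {A B : Over (Spec (CommRingCat.of k))} (h : A ⟶ B),
        (F.map h).left ≫ pullback.fst B.hom t = pullback.fst A.hom t ≫ h.left :=
      fun h => pullback.lift_fst _ _ _
    have hw : w.left ≫ pullback.fst (G ⊗ X).hom t = (G ◁ f).left := by
      refine pullback.hom_ext (f := G.hom) (g := X.hom) ?_ ?_
      · show (w.left ≫ _) ≫ (fst G X).left = (G ◁ f).left ≫ (fst G X).left
        rw [Category.assoc, ← hmap, ← Category.assoc, ← Over.comp_left (f := w), w1, ← Over.comp_left,
          whiskerLeft_fst]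
        exact Category.id_comp _
      · show (w.left ≫ _) ≫ (snd G X).left = (G ◁ f).left ≫ (snd G X).left
        rw [Category.assoc, ← hmap, ← Category.assoc, ← Over.comp_left (f := w), w2, ← Over.comp_left,
          whiskerLeft_snd, Over.comp_left, Over.comp_left, Category.assoc]
        refine congrArg ((snd G T).left ≫ ·) ?_
        show (lift f (𝟙 T)).left ≫ (fst X T).left = _
        rw [← Over.comp_left, lift_fst]
    refine pullback.hom_ext (f := X.hom) (g := t) ?_ ?_
    · show (a'.orbitMap x').left ≫ pullback.fst X.hom t = (GIT.psi a f).left ≫ (fst X T).left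
      rw [ho, Over.comp_left, Category.assoc, hmap, ← Category.assoc, hw, ← Over.comp_left,
        ← Over.comp_left, GIT.psi, lift_fst]
    · show (a'.orbitMap x').left ≫ (F.obj X).hom = (GIT.psi a f).left ≫ (snd X T).left
      rw [Over.w, ← Over.comp_left, GIT.psi, lift_snd]
      rfl
  let Z : Over (Spec (CommRingCat.of K)) := Over.mk φ
  let i : Z ⟶ F.obj G := Over.homMk q (by
    show q ≫ (snd G T).left = φ
    rw [show snd G T = GIT.psi a f ≫ snd X T by simp [GIT.psi], Over.comp_left, ← Category.assoc,
      left.w, Category.assoc, ← Over.comp_left, lift_snd]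
    exact Category.comp_id _)
  have sq : IsPullback i (toUnit Z) (a'.orbitMap x') x' := by
    refine IsPullback.of_map (Over.forget _) ?_ ?_
    · apply Over.OverMorphism.ext
      show q ≫ (a'.orbitMap x').left = (toUnit Z).left ≫ x'.left
      rw [horb, left.w]
      rfl
    · show IsPullback q (toUnit Z).left (a'.orbitMap x').left x'.left
      rw [horb]
      exact left
  haveI : LocallyOfFiniteType Z.hom := ‹LocallyOfFiniteType φ›
  haveI : Smooth φ := smooth_stab a' x' i sq
  have hφ : Function.Injective φ := φ.injective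
  haveI : LocallyQuasiFinite φ := LocallyQuasiFinite.of_injective hφ
  haveI : Etale φ := (EtaleQF.etale_iff_smooth_and_locallyQuasiFinite φ).2 ⟨inferInstance, inferInstance⟩
  have he : (lift (1 : X ⟶ G) (𝟙 X) ≫ Ψ).left = (𝟙 X ≫ d).left := by
    congr 1
    simp only [Ψ, d, GIT.psi, MonoidalCategory.whiskerLeft_id, Category.id_comp, comp_lift, lift_snd,
      AlgGrpBasic19.act_one]
  let e : X.left ⟶ pullback Ψ.left d.left := pullback.lift (lift (1 : X ⟶ G) (𝟙 X)).left (𝟙 X.left)
    (by rw [← Over.comp_left, he]; simp)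
  exact isIso_of_section φ hφ (pullback.lift (X.left.fromSpecResidueField x ≫ e) (𝟙 _)
    (by rw [Category.assoc, show e ≫ P = 𝟙 _ from pullback.lift_snd _ _ _]; simp)) (pullback.lift_snd _ _ _)

end Groth.Agent.Stab19
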